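import Groth.Agent.StrictNode.Coord
import Groth.Agent.NodalQ.Scheme
import Groth.Agent.GeomConn5.Point
import Groth.Agent.GrpSchLib.SmoothRegular
import Groth.Agent.PicGlue.AmpleDimOne
import Groth.Agent.RegLoc6.Basic
import Groth.Prelude.Def_StrictSS

/-!
# Node charts at nodes with smooth branches over a separably closed field
-/

set_option autoImplicit false
set_option linter.style.haveILetI false
set_option linter.unusedSectionVars false
set_option backward.isDefEq.respectTransparency false
set_option backward.isDefEq.respectTransparency.types false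
set_option maxHeartbeats 1000000

universe u

open CategoryTheory CategoryTheory.Limits AlgebraicGeometry TopologicalSpace StrictSS IsLocalRing

noncomputable section

namespace Groth.Agent.StrictNode

/-- A surjection to a one-dimensional regular local ring gives a generator of the maximal ideal modulo
its kernel. -/
theorem exists_uniformizer_of_surjective {A O : Type u} [CommRing A] [IsLocalRing A] [CommRing O]
    [IsRegularLocalRing O] (hO : ringKrullDim O ≤ 1) (τ : A →+* O) (hτ : Function.Surjective τ)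
    {P : Ideal A} (hP : RingHom.ker τ ≤ P) :
    ∃ t ∈ maximalIdeal A, maximalIdeal A ≤ P ⊔ Ideal.span {t} := by
  obtain ⟨s, hsfin, hsc, hs⟩ : ∃ s : Set O, s.Finite ∧ s.ncard ≤ 1 ∧ Ideal.span s = maximalIdeal O := by
    have hfg : (maximalIdeal O).FG := IsNoetherian.noetherian _
    refine ⟨(maximalIdeal O).generators, Submodule.FG.finite_generators hfg, ?_, (maximalIdeal O).span_generators⟩
    rw [Submodule.FG.generators_ncard hfg]
    have h := IsRegularLocalRing.spanFinrank_maximalIdeal (R := O)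
    rw [← h] at hO
    exact_mod_cast hO
  obtain ⟨t', ht'⟩ : ∃ t' : O, maximalIdeal O = Ideal.span {t'} := by
    rcases s.eq_empty_or_nonempty with rfl | ⟨a, ha⟩
    · exact ⟨0, by rw [← hs]; simp⟩
    · exact ⟨a, by rw [← hs, Set.Subsingleton.eq_singleton_of_mem
        ((Set.ncard_le_one hsfin).1 hsc) ha]⟩
  have hcomap : (maximalIdeal O).comap τ = maximalIdeal A := by
    haveI : ((maximalIdeal O).comap τ).IsMaximal := Ideal.comap_isMaximal_of_surjective τ hτ
    exact IsLocalRing.eq_maximalIdeal inferInstance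
  obtain ⟨t, rfl⟩ := hτ t'
  refine ⟨t, hcomap ▸ (show τ t ∈ maximalIdeal O from ht' ▸ Ideal.mem_span_singleton_self _), fun z hz => ?_⟩
  rw [← hcomap, Ideal.mem_comap, ht', Ideal.mem_span_singleton'] at hz
  obtain ⟨r', hr⟩ := hz
  obtain ⟨r, rfl⟩ := hτ r'
  refine Submodule.mem_sup.2 ⟨z - r * t, hP ?_, r * t, Ideal.mem_span_singleton'.2 ⟨r, rfl⟩, sub_add_cancel _ _⟩
  rw [RingHom.mem_ker, map_sub, map_mul, hr, sub_self]

section Scheme

variable (k : Type u) [Field k] (X : Scheme.{u}) [X.Over (Spec (CommRingCat.of k))]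
  [LocallyOfFiniteType (X ↘ Spec (CommRingCat.of k))]

theorem qcrit_of_node (hdim : topologicalKrullDim X ≤ 1) (x : X) (hx : Curv2.IsNode k X x) :
    NodalQ.QCrit (X.presheaf.stalk x) := by
  obtain ⟨v, hv, -⟩ := id hx.2
  subst hv
  exact (NodalQ.node_spec k X hdim v hx).2

theorem resMap_surjective [IsSepClosed k] (hdim : topologicalKrullDim X ≤ 1) (x : X)
    (hx : Curv2.IsNode k X x) : Function.Surjective (Curv2.resMap k X x) := by
  letI := Curv2.resAlgebra k X x
  haveI := NodalQ.isSeparable_of_node k X hdim x hx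
  exact IsSepClosed.algebraMap_surjective k (X.residueField x)

/-- Through each prime near a point there is a branch that is a quotient by a regular local ring. -/
theorem exists_branch {V : X.Opens} (hV : IsAffineOpen V) (x : X) (hxV : x ∈ V)
    (hdim : topologicalKrullDim X ≤ 1)
    (hZ : ∀ Z ∈ irreducibleComponents (X : Type u), ∃ (W : Scheme.{u}) (e : W ⟶ X),
      IsClosedImmersion e ∧ IsReduced W ∧ Set.range e.base = Z ∧ Smooth (e ≫ (X ↘ Spec (CommRingCat.of k))))
    (P : Ideal Γ(X, V)) [P.IsPrime] (hP : P ≤ (hV.primeIdealOf ⟨x, hxV⟩).asIdeal) :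
    ∃ (O : Type u) (_ : CommRing O) (_ : IsRegularLocalRing O) (τ : X.presheaf.stalk x →+* O),
      ringKrullDim O ≤ 1 ∧ Function.Surjective τ ∧
      ∀ b : Γ(X, V), τ (X.presheaf.germ V x hxV b) = 0 → b ∈ P := by
  let ξ : X := hV.fromSpec (⟨P, inferInstance⟩ : PrimeSpectrum Γ(X, V))
  have hξx : ξ ⤳ x := by
    have h : (⟨P, inferInstance⟩ : PrimeSpectrum Γ(X, V)) ⤳ hV.primeIdealOf ⟨x, hxV⟩ :=
      (PrimeSpectrum.le_iff_specializes _ _).1 hP
    have := h.map hV.fromSpec.continuous
    rwa [hV.fromSpec_primeIdealOf] at this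
  obtain ⟨W, e, he, hWred, hrange, hsm⟩ := hZ (irreducibleComponent ξ) (irreducibleComponent_mem_irreducibleComponents ξ)
  haveI := he
  haveI := hsm
  obtain ⟨η, hη⟩ : ξ ∈ Set.range e.base := hrange ▸ mem_irreducibleComponent
  obtain ⟨w, rfl⟩ : x ∈ Set.range e.base := hrange ▸ hξx.mem_closed isClosed_irreducibleComponent mem_irreducibleComponent
  have hηw : η ⤳ w := e.isClosedEmbedding.isEmbedding.isInducing.specializes_iff.1 (by
    rw [show e η = ξ from hη]; exact hξx)
  haveI := GrpSchLib.isRegularLocalRing_stalk_of_smooth (e ≫ (X ↘ Spec (CommRingCat.of k))) w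
  refine ⟨W.presheaf.stalk w, inferInstance, inferInstance, (e.stalkMap w).hom,
    PicGlue.ringKrullDim_stalk_le_one (e.isClosedEmbedding.isEmbedding.isInducing.topologicalKrullDim_le.trans hdim) w,
    e.stalkMap_surjective w, fun b hb => ?_⟩
  have h1 : W.presheaf.germ (e ⁻¹ᵁ V) w hxV (e.app V b) = 0 := by
    rw [← Scheme.Hom.germ_stalkMap_apply]; exact hb
  have hηV : η ∈ e ⁻¹ᵁ V := hηw.mem_open (e ⁻¹ᵁ V).2 hxV
  have h2 : W.presheaf.germ (e ⁻¹ᵁ V) η hηV (e.app V b) = 0 := by
    rw [← TopCat.Presheaf.germ_stalkSpecializes_apply W.presheaf hxV hηw]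
    exact (congrArg _ h1).trans (map_zero _)
  have h3 : ξ ∉ X.basicOpen b := fun h => by
    have h4 : η ∈ e ⁻¹ᵁ X.basicOpen b := (congrArg (fun z => z ∈ X.basicOpen b) hη).mpr h
    rw [Scheme.preimage_basicOpen, Scheme.mem_basicOpen _ _ _ hηV] at h4
    rw [h2] at h4
    exact not_isUnit_zero h4
  by_contra hbP
  refine h3 ?_
  have : (⟨P, inferInstance⟩ : PrimeSpectrum Γ(X, V)) ∈ hV.fromSpec ⁻¹ᵁ X.basicOpen b := by
    rw [IsAffineOpen.fromSpec_preimage_basicOpen]; exact hbP
  exact this

end Scheme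

/-- A node with smooth branches over a separably closed field has a node chart. -/
theorem hasNodeChartAt {k : Type u} [Field k] [IsSepClosed k] {C D : Scheme.{u}}
    (φ : C ⟶ Spec (CommRingCat.of k)) [LocallyOfFiniteType φ] [IsReduced C] (i : D ⟶ C) [IsClosedImmersion i]
    (hdim : topologicalKrullDim C ≤ 1)
    (hZ : ∀ Z ∈ irreducibleComponents (C : Type u), ∃ (W : Scheme.{u}) (e : W ⟶ C),
      IsClosedImmersion e ∧ IsReduced W ∧ Set.range e.base = Z ∧ Smooth (e ≫ φ))
    (x : C) (hnode : @Curv2.IsNode k _ C ⟨φ⟩ x) (hxD : x ∉ Set.range i) : HasNodeChartAt φ i x := by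
  letI : C.Over (Spec (CommRingCat.of k)) := ⟨φ⟩
  haveI : LocallyOfFiniteType (C ↘ Spec (CommRingCat.of k)) := ‹LocallyOfFiniteType φ›
  haveI : IsLocallyNoetherian C := LocallyOfFiniteType.isLocallyNoetherian φ
  obtain ⟨V, hV, hxV, hVD⟩ := exists_isAffineOpen_mem_and_subset (X := C) (x := x)
    (U := ⟨(Set.range i)ᶜ, i.isClosedEmbedding.isClosed_range.isOpen_compl⟩) hxD
  obtain ⟨φB, hφB⟩ := Spec.map_surjective (hV.fromSpec ≫ φ)
  let B := Γ(C, V)
  letI : Algebra k B := φB.hom.toAlgebra
  haveI : Algebra.FiniteType k B := by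
    have h : LocallyOfFiniteType (hV.fromSpec ≫ φ) := inferInstance
    rw [← hφB, HasRingHomProperty.Spec_iff (P := @LocallyOfFiniteType)] at h
    exact h
  let q : Ideal B := (hV.primeIdealOf ⟨x, hxV⟩).asIdeal
  letI : Algebra B (C.presheaf.stalk x) := TopCat.Presheaf.algebra_section_stalk C.presheaf ⟨x, hxV⟩
  haveI : IsLocalization.AtPrime (C.presheaf.stalk x) q := hV.isLocalization_stalk ⟨x, hxV⟩
  let ψ : B →+* C.residueField x := (C.residue x).hom.comp (C.presheaf.germ V x hxV).hom
  have hψ : ψ.comp φB.hom = Curv2.resMap k C x := by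
    have h1 : Spec.map (φB ≫ CommRingCat.ofHom ψ) = Spec.map (CommRingCat.ofHom (Curv2.resMap k C x)) := by
      rw [← GeomConn5.spec_resMap, Spec.map_comp, hφB,
        show CommRingCat.ofHom ψ = C.presheaf.germ V x hxV ≫ C.residue x from rfl, Spec.map_comp,
        Scheme.fromSpecResidueField, ← hV.fromSpecStalk_eq_fromSpecStalk hxV]
      simp only [IsAffineOpen.fromSpecStalk, Category.assoc]
      rfl
    exact congrArg (fun g => g.hom) (Spec.map_injective h1)
  have hker : RingHom.ker ψ = q := by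
    ext b
    rw [← IsLocalization.AtPrime.to_map_mem_maximal_iff (C.presheaf.stalk x) q b]
    exact IsLocalRing.residue_eq_zero_iff _
  have hsurj : Function.Surjective (ψ.comp φB.hom) := hψ ▸ resMap_surjective k C hdim x hnode
  haveI : q.IsMaximal := hker ▸ RingHom.ker_isMaximal_of_surjective ψ fun z => by
    obtain ⟨c, hc⟩ := hsurj z
    exact ⟨_, hc⟩
  have hres : ∀ b : B, ∃ c : k, b - algebraMap k B c ∈ q := fun b => by
    obtain ⟨c, hc⟩ := hsurj (ψ b)
    refine ⟨c, ?_⟩
    rw [← hker, RingHom.mem_ker, map_sub, sub_eq_zero]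
    exact hc.symm
  let E : Localization.AtPrime q ≃+* C.presheaf.stalk x :=
    (IsLocalization.algEquiv q.primeCompl (Localization.AtPrime q) (C.presheaf.stalk x)).toRingEquiv
  have hE : ∀ b, E (algebraMap B (Localization.AtPrime q) b) = C.presheaf.germ V x hxV b := fun b =>
    (IsLocalization.algEquiv q.primeCompl (Localization.AtPrime q) (C.presheaf.stalk x)).commutes b
  haveI : _root_.IsReduced (Localization.AtPrime q) := isReduced_of_injective E.toRingHom E.injective
  have hq : NodalQ.QCrit (Localization.AtPrime q) := by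
    haveI : IsLocalHom (E.symm : C.presheaf.stalk x →+* Localization.AtPrime q) := inferInstance
    exact NodalQ.QCrit.map (E.symm : C.presheaf.stalk x →+* Localization.AtPrime q)
      (RingHom.Flat.of_bijective E.symm.bijective)
      (map_maximalIdeal_of_surjective _ E.symm.surjective) (qcrit_of_node k C hdim x hnode)
  have hreg : ∀ P : Ideal (Localization.AtPrime q), P.IsPrime → P ≠ maximalIdeal (Localization.AtPrime q) →
      ∃ t ∈ maximalIdeal (Localization.AtPrime q), maximalIdeal (Localization.AtPrime q) ≤ P ⊔ Ideal.span {t} := by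
    intro P hP _
    haveI := hP
    haveI : (P.comap (algebraMap B (Localization.AtPrime q))).IsPrime := Ideal.comap_isPrime _ _
    have hPq : P.comap (algebraMap B (Localization.AtPrime q)) ≤ q := fun b hb =>
      (IsLocalization.AtPrime.to_map_mem_maximal_iff (Localization.AtPrime q) q b).1
        (IsLocalRing.le_maximalIdeal hP.ne_top hb)
    obtain ⟨O, hO1, hO2, τ, hdimO, hτ, hker⟩ := exists_branch k C hV x hxV hdim hZ _ hPq
    refine exists_uniformizer_of_surjective hdimO (τ.comp E.toRingHom) (hτ.comp E.surjective) fun z hz => ?_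
    obtain ⟨⟨b, s⟩, hbs⟩ := IsLocalization.surj q.primeCompl z
    refine (Ideal.mul_unit_mem_iff_mem P (IsLocalization.map_units _ s)).1 ?_
    rw [hbs]
    refine hker b ?_
    rw [← hE, ← hbs, map_mul, map_mul]
    exact mul_eq_zero_of_left (RingHom.mem_ker.1 hz) _
  obtain ⟨g, hg, θ, hθk, hθ⟩ := exists_etale_node_coords k B q hres hq hreg
  let Bg := Localization.Away g
  let j₀ : Spec (CommRingCat.of Bg) ⟶ Spec Γ(C, V) := Spec.map (CommRingCat.ofHom (algebraMap B Bg))
  haveI : IsOpenImmersion j₀ := IsOpenImmersion.of_isLocalization g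
  let j := j₀ ≫ hV.fromSpec
  haveI : Etale (Spec.map (CommRingCat.ofHom θ)) := (HasRingHomProperty.Spec_iff (P := @Etale)).2 hθ
  refine ⟨CommRingCat.of k, 𝟙 _, inferInstance, j.opensRange, ?_, j.opensRange.ι ≫ φ,
    (Category.comp_id _).symm, 0, j.isoOpensRange.inv ≫ Spec.map (CommRingCat.ofHom θ), inferInstance, ?_, ?_⟩
  · obtain ⟨z, hz⟩ : hV.primeIdealOf ⟨x, hxV⟩ ∈ Set.range j₀ := by
      show _ ∈ Set.range (PrimeSpectrum.comap (algebraMap B Bg))
      rw [PrimeSpectrum.localization_away_comap_range Bg g]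
      exact hg
    exact ⟨z, by rw [Scheme.Hom.comp_apply, hz, hV.fromSpec_primeIdealOf]⟩
  · have h1 : Spec.map (CommRingCat.ofHom θ) ≫ nodeToBase k 0 = j ≫ φ := by
      show Spec.map _ ≫ Spec.map _ = (Spec.map _ ≫ _) ≫ _
      rw [Category.assoc, ← hφB, ← Spec.map_comp, ← Spec.map_comp, ← CommRingCat.ofHom_comp, hθk]
      rfl
    rw [Category.assoc, h1, Scheme.Hom.isoOpensRange_inv_comp_assoc]
  · refine Set.disjoint_left.2 fun c hc hcU => ?_
    obtain ⟨z, rfl⟩ := hcU
    have : hV.fromSpec (j₀ z) ∈ Set.range hV.fromSpec := ⟨_, rfl⟩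
    rw [hV.range_fromSpec] at this
    exact hVD this (by simpa [j] using hc)

end Groth.Agent.StrictNode
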