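import Groth.Agent.StrictNode.Line
import Groth.Agent.StrictNode.Node
import Groth.Agent.NodalLib.BaseField
import Groth.Agent.NodalLib.Gor
import Mathlib.AlgebraicGeometry.Morphisms.IsIso

/-!
# Semistable curves with smooth components over a separably closed field are strictly semistable
-/

set_option autoImplicit false
set_option linter.style.haveILetI false
set_option linter.unusedSectionVars false
set_option backward.isDefEq.respectTransparency false
set_option backward.isDefEq.respectTransparency.types false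
set_option maxHeartbeats 1000000

universe u

open CategoryTheory CategoryTheory.Limits AlgebraicGeometry TopologicalSpace StrictSS

noncomputable section

namespace Groth.Agent.StrictNode

variable {k : Type u} [Field k] {C : Scheme.{u}} (φ : C ⟶ Spec (CommRingCat.of k))

theorem atWorstNodal_of_isNodalFamily (h : Curv2.IsNodalFamily φ) :
    topologicalKrullDim C ≤ 1 ∧ @Curv2.AtWorstNodal k _ C ⟨φ⟩ := by
  obtain ⟨hfl, hlfp, hfib⟩ := h
  haveI := hlfp
  let S := Spec (CommRingCat.of k)
  haveI : Subsingleton S := inferInstanceAs (Subsingleton (PrimeSpectrum k))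
  let s : S := default
  let c := S.fromSpecResidueField s
  haveI : IsClosedImmersion c := isClosed_singleton_iff_isClosedImmersion.mp (by
    rw [show ({s} : Set S) = Set.univ from Set.eq_univ_of_forall fun z => Subsingleton.elim z s]; exact isClosed_univ)
  haveI : Surjective c := ⟨fun z => ⟨default, Subsingleton.elim _ _⟩⟩
  haveI : IsIso c := isIso_of_isClosedImmersion_of_surjective c
  haveI : IsIso (φ.fiberι s) := inferInstanceAs (IsIso (pullback.fst φ c))
  obtain ⟨hcomp, hnod⟩ := hfib s
  obtain ⟨ρ, hρ⟩ := Spec.map_surjective c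
  letI : Algebra k (S.residueField s) := ρ.hom.toAlgebra
  haveI : Etale (Spec.map (CommRingCat.ofHom (algebraMap k (S.residueField s)))) := by
    show Etale (Spec.map ρ)
    rw [hρ]; infer_instance
  let q := φ.fiberToSpecResidueField s
  haveI : LocallyOfFiniteType q := inferInstanceAs (LocallyOfFiniteType (pullback.snd φ c))
  refine ⟨?_, ?_⟩
  · letI : (φ.fiber s).Over (Spec (CommRingCat.of (S.residueField s))) := ⟨q⟩
    haveI : LocallyOfFiniteType ((φ.fiber s) ↘ Spec (CommRingCat.of (S.residueField s))) := ‹LocallyOfFiniteType q›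
    have h1 := NodalLib.topologicalKrullDim_le_one_of_components (S.residueField s) (φ.fiber s) hcomp
    exact (inv (φ.fiberι s)).isEmbedding.isInducing.topologicalKrullDim_le.trans h1
  · have hn := @NodalLib.atWorstNodal_restrict k (S.residueField s) _ _ (φ.fiber s) ‹Algebra k (S.residueField s)› q _ _ hnod
    letI oF : (φ.fiber s).Over (Spec (CommRingCat.of k)) :=
      ⟨q ≫ Spec.map (CommRingCat.ofHom (algebraMap k (S.residueField s)))⟩
    letI oC : C.Over (Spec (CommRingCat.of k)) := ⟨φ⟩
    haveI : LocallyOfFiniteType ((φ.fiber s) ↘ Spec (CommRingCat.of k)) :=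
      inferInstanceAs (LocallyOfFiniteType (q ≫ _))
    haveI : LocallyOfFiniteType (C ↘ Spec (CommRingCat.of k)) := inferInstanceAs (LocallyOfFiniteType φ)
    refine NodalLib.atWorstNodal_of_etale (k := k) (inv (φ.fiberι s)) ?_ hn
    show inv (φ.fiberι s) ≫ q ≫ Spec.map ρ = φ
    rw [hρ, IsIso.inv_comp_eq]
    exact pullback.condition.symm

theorem isStrictlySemistable [IsSepClosed k] {D : Scheme.{u}} (i : D ⟶ C) [IsReduced C]
    (hss : SSMod.IsSemistable φ i)
    (hZ : ∀ Z ∈ irreducibleComponents (C : Type u), ∃ (W : Scheme.{u}) (e : W ⟶ C),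
      IsClosedImmersion e ∧ IsReduced W ∧ Set.range e.base = Z ∧ Smooth (e ≫ φ)) :
    IsStrictlySemistable φ i := by
  obtain ⟨hmp, hnf, het, hdis⟩ := hss
  refine ⟨hmp, ?_⟩
  obtain ⟨-, hlfp, -, -, hrd, hi, -⟩ := hmp
  haveI := hlfp
  haveI := hi
  haveI := het
  obtain ⟨hdim, hnod⟩ := atWorstNodal_of_isNodalFamily φ hnf
  haveI : JacobsonSpace C := LocallyOfFiniteType.jacobsonSpace φ
  intro x
  obtain ⟨y, hyx, hy⟩ := nonempty_inter_closedPoints (Z := closure {x}) ⟨x, subset_closure rfl⟩
    isClosed_closure.isLocallyClosed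
  have hs : x ⤳ y := specializes_iff_mem_closure.2 hyx
  have key : HasLineChartAt φ i y ∨ HasNodeChartAt φ i y := by
    by_cases hsm : y ∈ φ.smoothLocus
    · exact Or.inl (hasLineChartAt φ i hrd y hsm)
    · refine Or.inr (hasNodeChartAt φ i hdim hZ y ?_ fun hyD => ?_)
      · refine (hnod y hy).resolve_left fun ⟨U, hyU, hU⟩ => hsm ?_
        letI : C.Over (Spec (CommRingCat.of k)) := ⟨φ⟩
        haveI : LocallyOfFinitePresentation (C ↘ Spec (CommRingCat.of k)) := hlfp
        exact NodalLib.mem_smoothLocus_of_open k C ⟨U, hyU, hU⟩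
      · exact Set.disjoint_left.1 hdis hyD fun h => hsm (Scheme.Hom.mem_smoothLocus.2 h)
  rcases key with ⟨A, j, hj, U, hyU, rest⟩ | ⟨A, j, hj, U, hyU, rest⟩
  · exact Or.inl ⟨A, j, hj, U, hs.mem_open U.2 hyU, rest⟩
  · exact Or.inr ⟨A, j, hj, U, hs.mem_open U.2 hyU, rest⟩

end Groth.Agent.StrictNode
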