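import Groth.Agent.NodalQ.Core
import Groth.Agent.LocalCrit.Completion
import Mathlib.FieldTheory.IsSepClosed

/-!
# Local algebra of a split node

* a quadratic double point with separably closed residue field is split;
* if all quotients by primes have principal maximal ideal, a reduced split double point has two
  generators of the maximal ideal with product zero;
* a local map between rings with equal colengths of powers of the maximal ideals is flat.
-/

set_option autoImplicit false
set_option linter.style.haveILetI false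
set_option linter.unusedSectionVars false
set_option maxHeartbeats 1000000

universe u

open IsLocalRing

noncomputable section

namespace Groth.Agent.StrictNode

open NodalLib NodalQ

variable {R : Type u} [CommRing R] [IsLocalRing R] [IsNoetherianRing R]

/-- A quadratic double point with separably closed residue field satisfies the split criterion. -/
theorem crit_of_sepClosed (k : Type u) [Field k] [IsSepClosed k] (σ : k →+* R)
    (hres : ∀ r : R, ∃ t : k, r - σ t ∈ maximalIdeal R) (h : QCrit R) : Crit R := by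
  obtain ⟨x, y, a, b, c, hspan, ha, hdisc, hrel, -⟩ := h.normal
  obtain ⟨-, -, -, -, -, -, -, -, hl⟩ := h
  obtain ⟨v, hv⟩ := ha.exists_left_inv
  obtain ⟨s, hroot⟩ : ∃ s : R, a * (s * s) + b * s + c ∈ maximalIdeal R := by
    let ρ : k →+* ResidueField R := (residue R).comp σ
    have hρ : ∀ r, ∃ t, ρ t = residue R r := fun r => by
      obtain ⟨t, ht⟩ := hres r
      exact ⟨t, (Ideal.Quotient.eq.2 ht).symm⟩
    obtain ⟨a', ha'⟩ := hρ a
    obtain ⟨b', hb'⟩ := hρ b
    obtain ⟨c', hc'⟩ := hρ c
    have hd : 4 * a' * c' - b' ^ 2 ≠ 0 := fun h0 => hdisc (by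
      have := congrArg ρ h0
      simpa [map_sub, map_mul, map_pow, map_ofNat, ha', hb', hc'] using this)
    have ha0 : a' ≠ 0 := fun h0 => (residue_ne_zero_iff_isUnit a).2 ha (by rw [← ha', h0, map_zero])
    let f : Polynomial k := Polynomial.C a' * Polynomial.X ^ 2 + Polynomial.C b' * Polynomial.X + Polynomial.C c'
    have hsep : f.Separable := by
      refine ⟨Polynomial.C (4 * a' * c' - b' ^ 2)⁻¹ * Polynomial.C (4 * a'),
        Polynomial.C (4 * a' * c' - b' ^ 2)⁻¹ * -(Polynomial.C (2 * a') * Polynomial.X + Polynomial.C b'), ?_⟩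
      have h1 : Polynomial.C (4 * a') * f + -(Polynomial.C (2 * a') * Polynomial.X + Polynomial.C b') *
          Polynomial.derivative f = Polynomial.C (4 * a' * c' - b' ^ 2) := by
        simp only [f, Polynomial.derivative_add, Polynomial.derivative_mul, Polynomial.derivative_C,
          Polynomial.derivative_X_pow, Polynomial.derivative_X, map_sub, map_mul, map_pow, map_ofNat]
        push_cast
        simp only [map_ofNat]
        ring
      have h2 := congrArg (fun g => Polynomial.C (4 * a' * c' - b' ^ 2)⁻¹ * g) h1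
      simp only [← map_mul, inv_mul_cancel₀ hd, map_one] at h2
      linear_combination h2
    obtain ⟨t, ht⟩ := IsSepClosed.exists_root f
      (by rw [Polynomial.degree_quadratic ha0]; norm_num) hsep
    refine ⟨σ t, (residue_eq_zero_iff _).1 ?_⟩
    have h2 : a' * (t * t) + b' * t + c' = 0 := by
      simp only [f, Polynomial.IsRoot, Polynomial.eval_add, Polynomial.eval_mul, Polynomial.eval_pow,
        Polynomial.eval_C, Polynomial.eval_X] at ht
      linear_combination ht
    have := congrArg ρ h2
    simpa [map_add, map_mul, ha', hb', hc', ρ] using this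
  let s' := -(v * b) - s
  have hy2 : y * y ∈ maximalIdeal R ^ 2 := by rw [sq]; exact Ideal.mul_mem_mul (y_mem hspan) (y_mem hspan)
  have hmul : (x - s * y) * (x - s' * y) ∈ maximalIdeal R ^ 3 := by
    rw [show (x - s * y) * (x - s' * y) =
      v * (a * x ^ 2 + b * x * y + c * y ^ 2) - v * ((a * (s * s) + b * s + c) * (y * y)) by
        simp only [s']; linear_combination (s * s * y * y - x * x) * hv]
    exact sub_mem (Ideal.mul_mem_left _ _ hrel) (Ideal.mul_mem_left _ _ (mul_mem_pow_succ hy2 _ hroot))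
  have hd : IsUnit (s - s') := by
    refine isUnit_of_residue fun h0 => hdisc ?_
    rw [residue_eq_zero_iff] at h0 ⊢
    rw [show 4 * a * c - b ^ 2 = 4 * a * (a * (s * s) + b * s + c) - (a * (s - s')) ^ 2 by
      simp only [s']
      linear_combination (b * b * (v * a + 1) + 4 * a * b * s) * hv]
    exact sub_mem (Ideal.mul_mem_left _ _ hroot) (Ideal.pow_mem_of_mem _ (Ideal.mul_mem_left _ _ h0) 2 two_pos)
  obtain ⟨w, hw⟩ := hd.exists_left_inv
  refine ⟨x - s * y, x - s' * y, ?_, hmul, hl⟩
  rw [← hspan]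
  refine le_antisymm ?_ ?_ <;> rw [Ideal.span_le] <;> intro z hz <;>
    simp only [Set.mem_insert_iff, Set.mem_singleton_iff] at hz <;>
    rw [SetLike.mem_coe, Ideal.mem_span_pair] <;> rcases hz with hz | hz <;> rw [hz]
  · exact ⟨1, -s, by ring⟩
  · exact ⟨1, -s', by ring⟩
  · exact ⟨1 - w * s, w * s, by linear_combination s * y * hw⟩
  · exact ⟨-w, w, by linear_combination y * hw⟩

/-- Nakayama for the maximal ideal. -/
theorem le_of_le_sup_mul {I J : Ideal R} (h : I ≤ J ⊔ maximalIdeal R * I) : I ≤ J :=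
  Submodule.le_of_le_smul_of_le_jacobson_bot (IsNoetherian.noetherian _) (maximalIdeal_le_jacobson _) h

/-- The Krull intersection theorem modulo a prime. -/
theorem le_of_forall_le_sup_pow {P Q : Ideal R} [Q.IsPrime]
    (h : ∀ n, P ≤ Q ⊔ maximalIdeal R ^ n) : P ≤ Q := by
  intro z hz
  rw [← Ideal.Quotient.eq_zero_iff_mem]
  haveI : IsLocalRing (R ⧸ Q) :=
    IsLocalRing.of_surjective' (Ideal.Quotient.mk Q) Ideal.Quotient.mk_surjective
  have key : ∀ n, Ideal.Quotient.mk Q z ∈ maximalIdeal (R ⧸ Q) ^ n := fun n => by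
    have h1 := Ideal.mem_map_of_mem (Ideal.Quotient.mk Q) (h n hz)
    rwa [Ideal.map_sup, Ideal.map_quotient_self, bot_sup_eq, Ideal.map_pow,
      map_maximalIdeal_of_surjective _ Ideal.Quotient.mk_surjective] at h1
  have hbot := Ideal.iInf_pow_eq_bot_of_isLocalRing (maximalIdeal (R ⧸ Q)) (maximalIdeal.isMaximal (R ⧸ Q)).ne_top
  exact (Submodule.mem_bot (R ⧸ Q)).1 (hbot ▸ Submodule.mem_iInf _ |>.2 key)

section Branches

variable {x y : R} (hspan : Ideal.span {x, y} = maximalIdeal R) (hxy : x * y ∈ maximalIdeal R ^ 3)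
include hspan hxy

theorem exists_cubic_rel : ∃ A B : R, x * y = A * x ^ 3 + B * y ^ 3 := by
  have hx := x_mem hspan
  have hy := y_mem hspan
  have h2 : maximalIdeal R ^ 2 ≤ Ideal.span {x * x, y * y} := by
    refine le_of_le_sup_mul ?_
    rw [← pow_succ', sq_eq hspan, Ideal.span_le]
    intro z hz
    simp only [Set.mem_insert_iff, Set.mem_singleton_iff] at hz
    rcases hz with rfl | rfl | rfl | rfl
    · exact Submodule.mem_sup_left (Ideal.subset_span (by simp))
    · exact Submodule.mem_sup_right hxy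
    · exact Submodule.mem_sup_right (mul_comm x y ▸ hxy)
    · exact Submodule.mem_sup_left (Ideal.subset_span (by simp))
  have h3 : maximalIdeal R ^ 3 ≤ Ideal.span {x ^ 3, y ^ 3} := by
    refine le_of_le_sup_mul ?_
    refine le_trans (le_of_eq (pow_succ _ 2)) ?_
    refine le_trans (Ideal.mul_mono h2 hspan.ge) ?_
    rw [Ideal.span_pair_mul_span_pair, Ideal.span_le]
    intro z hz
    simp only [Set.mem_insert_iff, Set.mem_singleton_iff] at hz
    rcases hz with rfl | rfl | rfl | rfl
    · exact Submodule.mem_sup_left (Ideal.subset_span (by simp [pow_succ]))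
    · refine Submodule.mem_sup_right ?_
      rw [mul_assoc]
      exact Ideal.mul_mem_mul hx hxy
    · refine Submodule.mem_sup_right ?_
      rw [mul_assoc, mul_comm y x]
      exact Ideal.mul_mem_mul hy hxy
    · exact Submodule.mem_sup_left (Ideal.subset_span (by simp [pow_succ]))
  obtain ⟨A, B, h⟩ := Ideal.mem_span_pair.1 (h3 hxy)
  exact ⟨A, B, h.symm⟩

/-- At most one nonmaximal prime is tangent to each of the two directions. -/
theorem eq_of_tangent {P Q : Ideal R} [P.IsPrime] [Q.IsPrime] (hP : P ≠ maximalIdeal R)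
    (hQ : Q ≠ maximalIdeal R) (hxP : x ∈ P ⊔ maximalIdeal R ^ 2) (hxQ : x ∈ Q ⊔ maximalIdeal R ^ 2) :
    P = Q := by
  obtain ⟨A, B, hAB⟩ := exists_cubic_rel hspan hxy
  let cs : ℕ → R := fun n => Nat.rec 0 (fun _ c => y * (A * c ^ 3 + B)) n
  have main : ∀ {P : Ideal R} [P.IsPrime], P ≠ maximalIdeal R → x ∈ P ⊔ maximalIdeal R ^ 2 → ∀ n,
      P ⊔ Ideal.span {y ^ n} = Ideal.span {x - y * cs n, y ^ n} := by
    intro P hPp hPne hxP n
    have hPm : P ≤ maximalIdeal R := IsLocalRing.le_maximalIdeal hPp.ne_top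
    have hm : maximalIdeal R ≤ P ⊔ Ideal.span {y} := by
      refine le_of_le_sup_mul ?_
      conv_lhs => rw [← hspan]
      rw [Ideal.span_le]
      rintro z (rfl | rfl)
      · rw [← sq]
        exact (sup_le (le_sup_of_le_left le_sup_left) le_sup_right : P ⊔ maximalIdeal R ^ 2 ≤ _) hxP
      · exact Submodule.mem_sup_left (Submodule.mem_sup_right (Ideal.mem_span_singleton_self _))
    have hyP : y ∉ P := fun h => hPne (le_antisymm hPm (hm.trans (sup_le le_rfl
      ((Ideal.span_singleton_le_iff_mem _).2 h))))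
    obtain ⟨p, hp, w, hw, hpw⟩ := Submodule.mem_sup.1 (hm (x_mem hspan))
    obtain ⟨c, rfl⟩ := Ideal.mem_span_singleton'.1 hw
    have hfix : c - y * (A * c ^ 3 + B) ∈ P := by
      refine (hPp.mem_or_mem (x := y ^ 2) ?_).resolve_left fun h => hyP (hPp.mem_of_pow_mem 2 h)
      have hx' : x - c * y ∈ P := by rwa [← hpw, add_sub_cancel_right]
      rw [show y ^ 2 * (c - y * (A * c ^ 3 + B)) =
        -((x - c * y) * y) + (x - c * y) * (A * (x ^ 2 + x * (c * y) + (c * y) ^ 2)) by
          linear_combination hAB]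
      exact add_mem (neg_mem (P.mul_mem_right _ hx')) (P.mul_mem_right _ hx')
    have happ : ∀ n, c - cs n ∈ P ⊔ Ideal.span {y ^ n} := fun n => by
      induction n with
      | zero => rw [pow_zero, Ideal.span_singleton_one, sup_top_eq]; trivial
      | succ n ih =>
        rw [show c - cs (n + 1) = (c - y * (A * c ^ 3 + B)) + y * ((c - cs n) * (A * (c ^ 2 + c * cs n + cs n ^ 2))) by
          show c - y * (A * cs n ^ 3 + B) = _
          ring]
        refine add_mem (Submodule.mem_sup_left hfix) ?_
        obtain ⟨p', hp', w', hw', he⟩ := Submodule.mem_sup.1 ih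
        obtain ⟨d, rfl⟩ := Ideal.mem_span_singleton'.1 hw'
        rw [← he, add_mul, mul_add]
        refine add_mem (Submodule.mem_sup_left (P.mul_mem_left _ (P.mul_mem_right _ hp')))
          (Submodule.mem_sup_right (Ideal.mem_span_singleton'.2 ⟨d * (A * (c ^ 2 + c * cs n + cs n ^ 2)), ?_⟩))
        ring
    have hJP : Ideal.span {x - y * cs n, y ^ n} ≤ P ⊔ Ideal.span {y ^ n} := by
      rw [Ideal.span_le]
      rintro z (rfl | rfl)
      · rw [show x - y * cs n = p + y * (c - cs n) by rw [← hpw]; ring]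
        exact add_mem (Submodule.mem_sup_left hp) (Ideal.mul_mem_left _ _ (happ n))
      · exact Submodule.mem_sup_right (Ideal.mem_span_singleton_self _)
    have hmJ : maximalIdeal R ≤ Ideal.span {x - y * cs n, y ^ n} ⊔ Ideal.span {y} := by
      conv_lhs => rw [← hspan]
      rw [Ideal.span_le]
      rintro z (rfl | rfl)
      · exact Submodule.mem_sup.2 ⟨z - y * cs n, Ideal.subset_span (by simp), cs n * y,
          Ideal.mem_span_singleton'.2 ⟨cs n, rfl⟩, by ring⟩
      · exact Submodule.mem_sup_right (Ideal.mem_span_singleton_self _)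
    refine le_antisymm (sup_le (fun z hz => ?_) (Ideal.span_mono (by simp))) hJP
    have step : ∀ j ≤ n, z ∈ Ideal.span {x - y * cs n, y ^ n} ⊔ Ideal.span {y ^ j} := by
      intro j hj
      induction j with
      | zero => rw [pow_zero, Ideal.span_singleton_one, sup_top_eq]; trivial
      | succ j ih =>
        obtain ⟨w, hw, r', hr', hwr⟩ := Submodule.mem_sup.1 (ih (Nat.le_of_succ_le hj))
        obtain ⟨r, rfl⟩ := Ideal.mem_span_singleton'.1 hr'
        have h1 : r * y ^ j ∈ P ⊔ Ideal.span {y ^ (j + 1)} := by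
          rw [show r * y ^ j = z - w by rw [← hwr]; ring]
          refine sub_mem (Submodule.mem_sup_left hz) ?_
          exact (sup_le le_sup_left (le_sup_of_le_right
            (Ideal.span_singleton_le_span_singleton.2 (pow_dvd_pow y hj))) :
              P ⊔ Ideal.span {y ^ n} ≤ _) (hJP hw)
        obtain ⟨p', hp', s', hs', hps⟩ := Submodule.mem_sup.1 h1
        obtain ⟨s, rfl⟩ := Ideal.mem_span_singleton'.1 hs'
        have h2 : r - s * y ∈ P := by
          refine (hPp.mem_or_mem (x := y ^ j) ?_).resolve_left fun h => hyP (hPp.mem_of_pow_mem j h)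
          rwa [show y ^ j * (r - s * y) = p' by linear_combination -hps]
        have h3 : r ∈ maximalIdeal R := by
          rw [show r = (r - s * y) + s * y by ring]
          exact add_mem (hPm h2) (Ideal.mul_mem_left _ _ (y_mem hspan))
        rw [← hwr]
        refine add_mem (Submodule.mem_sup_left hw) ?_
        obtain ⟨w', hw', s'', hs'', he⟩ := Submodule.mem_sup.1 (hmJ h3)
        obtain ⟨s₂, rfl⟩ := Ideal.mem_span_singleton'.1 hs''
        rw [← he, add_mul]
        exact add_mem (Submodule.mem_sup_left (Ideal.mul_mem_right _ _ hw'))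
          (Submodule.mem_sup_right (Ideal.mem_span_singleton'.2 ⟨s₂, by ring⟩))
    have := step n le_rfl
    rwa [sup_eq_left.2 (Ideal.span_mono (by simp))] at this
  have half : ∀ {P Q : Ideal R} [P.IsPrime] [Q.IsPrime], P ≠ maximalIdeal R → Q ≠ maximalIdeal R →
      x ∈ P ⊔ maximalIdeal R ^ 2 → x ∈ Q ⊔ maximalIdeal R ^ 2 → P ≤ Q := by
    intro P Q _ _ hP hQ hxP hxQ
    refine le_of_forall_le_sup_pow fun n => le_trans le_sup_left ((main hP hxP n).le.trans ?_)
    rw [← main hQ hxQ n]
    exact sup_le_sup_left ((Ideal.span_singleton_le_iff_mem _).2 (Ideal.pow_mem_pow (y_mem hspan) n)) _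
  exact le_antisymm (half hP hQ hxP hxQ) (half hQ hP hxQ hxP)

/-- A prime with regular quotient is tangent to one of the two directions. -/
theorem tangent_or (P : Ideal R) [P.IsPrime] (hP : P ≠ maximalIdeal R)
    {t : R} (htm : t ∈ maximalIdeal R) (ht : maximalIdeal R ≤ P ⊔ Ideal.span {t}) :
    x ∈ P ⊔ maximalIdeal R ^ 2 ∨ y ∈ P ⊔ maximalIdeal R ^ 2 := by
  have hPm : P ≤ maximalIdeal R := IsLocalRing.le_maximalIdeal ‹P.IsPrime›.ne_top
  have htP : t ∉ P := fun h => hP (le_antisymm hPm (ht.trans (sup_le le_rfl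
    ((Ideal.span_singleton_le_iff_mem _).2 h))))
  have dec : ∀ {r : R}, r ∈ maximalIdeal R → ∃ a, r - a * t ∈ P := fun {r} hr => by
    obtain ⟨p, hp, w, hw, h⟩ := Submodule.mem_sup.1 (ht hr)
    obtain ⟨a, rfl⟩ := Ideal.mem_span_singleton'.1 hw
    exact ⟨a, by rwa [← h, add_sub_cancel_right]⟩
  obtain ⟨a, ha⟩ := dec (x_mem hspan)
  obtain ⟨b, hb⟩ := dec (y_mem hspan)
  have hpow : ∀ n, maximalIdeal R ^ n ≤ P ⊔ Ideal.span {t ^ n} := fun n => by
    induction n with
    | zero => simp
    | succ n ih =>
      rw [pow_succ]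
      refine (Ideal.mul_mono ih ht).trans ?_
      rw [Ideal.sup_mul, Ideal.mul_sup (Ideal.span {t ^ n}), Ideal.span_singleton_mul_span_singleton, ← pow_succ]
      exact sup_le (le_sup_of_le_left Ideal.mul_le_left) (sup_le (le_sup_of_le_left Ideal.mul_le_right) le_sup_right)
  obtain ⟨p, hp, w, hw, hxy3⟩ := Submodule.mem_sup.1 (hpow 3 hxy)
  obtain ⟨s, rfl⟩ := Ideal.mem_span_singleton'.1 hw
  have h1 : t ^ 2 * (a * b - s * t) ∈ P := by
    rw [show t ^ 2 * (a * b - s * t) = p - ((x - a * t) * y + a * t * (y - b * t)) by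
      linear_combination -hxy3]
    exact sub_mem hp (add_mem (P.mul_mem_right _ ha) (P.mul_mem_left _ hb))
  have h2 : a * b ∈ maximalIdeal R := by
    have h := hPm ((‹P.IsPrime›.mem_or_mem h1).resolve_left fun h => htP (‹P.IsPrime›.mem_of_pow_mem 2 h))
    rw [show a * b = (a * b - s * t) + s * t by ring]
    exact add_mem h (Ideal.mul_mem_left _ _ htm)
  have fin : ∀ {r c : R}, r - c * t ∈ P → c ∈ maximalIdeal R → r ∈ P ⊔ maximalIdeal R ^ 2 := fun {r c} hr hc =>
    Submodule.mem_sup.2 ⟨_, hr, c * t, by rw [sq]; exact Ideal.mul_mem_mul hc htm, by ring⟩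
  exact ((maximalIdeal.isMaximal R).isPrime.mem_or_mem h2).imp (fin ha) (fin hb)

end Branches

/-- Colength three of the square: the maximal ideal is not principal. -/
theorem not_le_span_singleton (h : Crit R) {t : R} (htm : t ∈ maximalIdeal R) :
    ¬ maximalIdeal R ≤ Ideal.span {t} := by
  intro ht
  obtain ⟨-, -, -, -, hl⟩ := h
  have h2 : ell (maximalIdeal R ^ 2) = (3 : ℕ) := hl 1
  have hI : maximalIdeal R = maximalIdeal R ^ 2 ⊔ Ideal.span {t} := le_antisymm (le_sup_of_le_right ht)
    (sup_le (Ideal.pow_le_self two_ne_zero) ((Ideal.span_singleton_le_iff_mem _).2 htm))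
  have := (ell_step t hI (mul_mem_pow_succ (n := 1) (by rwa [pow_one]))).1
  rw [ell_maximal, h2] at this
  norm_cast at this

/-- A reduced split double point all of whose branches are regular has coordinates with product zero. -/
theorem exists_mul_eq_zero [IsReduced R] (h : Crit R)
    (hreg : ∀ P : Ideal R, P.IsPrime → P ≠ maximalIdeal R →
      ∃ t ∈ maximalIdeal R, maximalIdeal R ≤ P ⊔ Ideal.span {t}) :
    ∃ u v : R, u * v = 0 ∧ Ideal.span {u, v} = maximalIdeal R := by
  obtain ⟨x, y, hspan, hxy, hl⟩ := id h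
  have hyx : Ideal.span {y, x} = maximalIdeal R := by rw [Set.pair_comm, hspan]
  have hyx' : y * x ∈ maximalIdeal R ^ 3 := by rwa [mul_comm]
  -- if no branch is tangent to one direction, the maximal ideal is principal
  have key : ∀ {x y : R}, Ideal.span {x, y} = maximalIdeal R → x * y ∈ maximalIdeal R ^ 3 →
      ∃ P : Ideal R, P.IsPrime ∧ P ≠ maximalIdeal R ∧ y ∈ P ⊔ maximalIdeal R ^ 2 := by
    intro x y hspan hxy
    by_contra hno
    push Not at hno
    have hX : ∀ P : Ideal R, P.IsPrime → P ≠ maximalIdeal R → x ∈ P ⊔ maximalIdeal R ^ 2 := fun P hP hne => by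
      haveI := hP
      obtain ⟨t, htm, ht⟩ := hreg P hP hne
      exact (tangent_or hspan hxy P hne htm ht).resolve_right (hno P hP hne)
    have hzero : ∀ z : R, (∀ P : Ideal R, P.IsPrime → z ∈ P) → z = 0 := fun z hz =>
      IsNilpotent.eq_zero (nilpotent_iff_mem_prime.2 hz)
    by_cases hex : ∃ P : Ideal R, P.IsPrime ∧ P ≠ maximalIdeal R
    · obtain ⟨P, hP, hne⟩ := hex
      haveI := hP
      have hbot : P = ⊥ := (Submodule.eq_bot_iff _).2 fun z hz => hzero z fun Q hQ => by
        haveI := hQ
        rcases eq_or_ne Q (maximalIdeal R) with rfl | hQne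
        · exact IsLocalRing.le_maximalIdeal hP.ne_top hz
        · rwa [← eq_of_tangent hspan hxy hne hQne (hX P hP hne) (hX Q hQ hQne)]
      obtain ⟨t, htm, ht⟩ := hreg P hP hne
      exact not_le_span_singleton h htm (by simpa [hbot] using ht)
    · push Not at hex
      refine not_le_span_singleton h (maximalIdeal R).zero_mem fun z hz => ?_
      rw [hzero z fun Q hQ => (hex Q hQ) ▸ hz]
      exact zero_mem _
  obtain ⟨Q, hQ, hQne, hyQ⟩ := key hspan hxy
  obtain ⟨P, hP, hPne, hxP⟩ := key hyx hyx'
  haveI := hQ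
  haveI := hP
  obtain ⟨p, hp, m₁, hm₁, hpx⟩ := Submodule.mem_sup.1 hxP
  obtain ⟨q, hq, m₂, hm₂, hqy⟩ := Submodule.mem_sup.1 hyQ
  refine ⟨p, q, IsNilpotent.eq_zero (nilpotent_iff_mem_prime.2 fun J hJ => ?_), ?_⟩
  · haveI := hJ
    rcases eq_or_ne J (maximalIdeal R) with rfl | hJne
    · exact Ideal.mul_mem_right _ _ (IsLocalRing.le_maximalIdeal hP.ne_top hp)
    · obtain ⟨t, htm, ht⟩ := hreg J hJ hJne
      rcases tangent_or hspan hxy J hJne htm ht with h' | h'
      · rw [eq_of_tangent hspan hxy hJne hPne h' hxP]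
        exact P.mul_mem_right _ hp
      · rw [eq_of_tangent hyx hyx' hJne hQne h' hyQ]
        exact Q.mul_mem_left _ hq
  · refine le_antisymm (Ideal.span_le.2 ?_) (le_of_le_sup_mul ?_)
    · rintro z (rfl | rfl)
      exacts [IsLocalRing.le_maximalIdeal hP.ne_top hp, IsLocalRing.le_maximalIdeal hQ.ne_top hq]
    · conv_lhs => rw [← hspan]
      rw [← sq, Ideal.span_le]
      rintro z (rfl | rfl)
      · exact Submodule.mem_sup.2 ⟨p, Ideal.subset_span (by simp), m₁, hm₁, hpx⟩
      · exact Submodule.mem_sup.2 ⟨q, Ideal.subset_span (by simp), m₂, hm₂, hqy⟩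

/-- A local map along which the maximal ideal generates, inducing a surjection on residue fields and
keeping the colengths of the powers of the maximal ideals, is flat. -/
theorem flat_of_ell {A B : Type u} [CommRing A] [CommRing B] [IsLocalRing A] [IsLocalRing B]
    [IsNoetherianRing A] [IsNoetherianRing B] [Algebra A B] (N : ℕ → ℕ)
    (hA : ∀ n, ell (maximalIdeal A ^ (n + 1)) ≤ (N n : ℕ∞))
    (hB : ∀ n, ell (maximalIdeal B ^ (n + 1)) = (N n : ℕ∞))
    (hm : (maximalIdeal A).map (algebraMap A B) = maximalIdeal B)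
    (hres : ∀ b : B, ∃ a : A, b - algebraMap A B a ∈ maximalIdeal B) : Module.Flat A B := by
  have hJB : ∀ n, (maximalIdeal A ^ n).map (algebraMap A B) = maximalIdeal B ^ n := fun n => by
    rw [Ideal.map_pow, hm]
  have hs : ∀ n, ∀ b : B, ∃ a : A, b - algebraMap A B a ∈ maximalIdeal B ^ n := by
    intro n
    induction n with
    | zero => exact fun b => ⟨0, by simp⟩
    | succ n ih =>
      intro b
      obtain ⟨a, ha⟩ := ih b
      rw [← hJB n] at ha
      have gen : ∀ z ∈ (maximalIdeal A ^ n).map (algebraMap A B),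
          ∃ a' : A, z - algebraMap A B a' ∈ maximalIdeal B ^ (n + 1) := by
        intro z hz
        induction hz using Submodule.span_induction with
        | mem z hz =>
          obtain ⟨r, -, rfl⟩ := hz
          exact ⟨r, by simp⟩
        | zero => exact ⟨0, by simp⟩
        | add z z' _ _ hz hz' =>
          obtain ⟨c, hc⟩ := hz
          obtain ⟨c', hc'⟩ := hz'
          exact ⟨c + c', by simpa [map_add, add_sub_add_comm] using add_mem hc hc'⟩
        | smul r z hzm hz =>
          obtain ⟨c, hc⟩ := hz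
          obtain ⟨r', hr'⟩ := hres r
          refine ⟨r' * c, ?_⟩
          rw [show r • z - algebraMap A B (r' * c) =
            (r - algebraMap A B r') * z + algebraMap A B r' * (z - algebraMap A B c) by
              rw [smul_eq_mul, map_mul]; ring]
          refine add_mem ?_ (Ideal.mul_mem_left _ _ hc)
          rw [pow_succ']
          exact Ideal.mul_mem_mul hr' (hJB n ▸ hzm)
      obtain ⟨a', ha'⟩ := gen _ ha
      exact ⟨a + a', by rwa [map_add, ← sub_sub]⟩
  refine LocalCrit.flat_of_forall_quotient_pow (B := B) (maximalIdeal A)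
    (hm.le.trans (maximalIdeal_le_jacobson _)) fun n => ?_
  refine LocalCrit.keepsInjective_of_bijective_mod _ (Algebra.ofId A B) (fun b => ?_) fun c hc => ?_
  · obtain ⟨a, ha⟩ := hs n b
    exact ⟨a, by rw [hJB]; exact ha⟩
  rw [Algebra.algebraMap_self, Ideal.map_id]
  rw [hJB] at hc
  rcases n with _ | n
  · simp
  by_contra hcI
  let I := maximalIdeal A ^ (n + 1)
  let J : Ideal A := (maximalIdeal B ^ (n + 1)).comap (algebraMap A B)
  have hle : I ≤ J := Ideal.map_le_iff_le_comap.1 (hJB _).le
  have hJ : ell J = ell (maximalIdeal B ^ (n + 1)) := by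
    let g : A →+* B ⧸ maximalIdeal B ^ (n + 1) := (Ideal.Quotient.mk _).comp (algebraMap A B)
    have hg : Function.Surjective g := fun z => by
      obtain ⟨b, rfl⟩ := Ideal.Quotient.mk_surjective z
      obtain ⟨a, ha⟩ := hs (n + 1) b
      exact ⟨a, (Ideal.Quotient.eq.2 ha).symm⟩
    have hgk : RingHom.ker g = J := by
      show RingHom.ker ((Ideal.Quotient.mk _).comp (algebraMap A B)) = J
      rw [← RingHom.comap_ker, Ideal.mk_ker]
    let L : A →ₗ[A] B ⧸ maximalIdeal B ^ (n + 1) := Algebra.linearMap A _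
    have hL : LinearMap.ker L = J := hgk
    rw [ell, ell]
    refine (((Submodule.quotEquivOfEq _ _ hL.symm).trans (L.quotKerEquivOfSurjective hg)).length_eq).trans ?_
    exact (Module.length_eq_of_surjective (S := A) (R := B ⧸ maximalIdeal B ^ (n + 1))
      (M := B ⧸ maximalIdeal B ^ (n + 1)) hg).symm.symm.trans
      (Module.length_eq_of_surjective (S := B) (R := B ⧸ maximalIdeal B ^ (n + 1))
        (M := B ⧸ maximalIdeal B ^ (n + 1)) Ideal.Quotient.mk_surjective).symm
  have h3 : ell J + 1 ≤ ell I := by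
    rw [ell, ell]
    have hex := Module.length_eq_add_of_exact (Submodule.subtype (Submodule.map (Submodule.mkQ I) J))
      (Submodule.factor hle) (Submodule.injective_subtype _) (Submodule.factor_surjective _) (by
        intro z
        obtain ⟨r, rfl⟩ := Submodule.mkQ_surjective I z
        constructor
        · intro hr
          exact ⟨⟨_, Submodule.mem_map_of_mem ((Submodule.Quotient.mk_eq_zero _).1 hr)⟩, rfl⟩
        · rintro ⟨⟨w, hw⟩, hw'⟩
          obtain ⟨j, hj, rfl⟩ := Submodule.mem_map.1 hw
          rw [← hw']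
          exact (Submodule.Quotient.mk_eq_zero _).2 hj)
    rw [hex, add_comm]
    gcongr
    refine ENat.one_le_iff_ne_zero.2 ?_
    rw [Ne, Module.length_eq_zero_iff, Submodule.subsingleton_iff_eq_bot]
    intro hbot
    have := Submodule.mem_map_of_mem (f := Submodule.mkQ I) (show c ∈ J from hc)
    rw [hbot] at this
    exact hcI ((Submodule.Quotient.mk_eq_zero _).1 this)
  rw [hJ, hB] at h3
  have h4 := h3.trans (hA n)
  norm_cast at h4
  omega

end Groth.Agent.StrictNode
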