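import Groth.Agent.StrictNode.Branch
import Groth.Agent.NodeModel.Alg
import Groth.Agent.EtLoc7.Basic

/-!
# An étale map to the split node model near a node with smooth branches
-/

set_option autoImplicit false
set_option linter.style.haveILetI false
set_option linter.unusedSectionVars false
set_option maxHeartbeats 1000000

universe u

open IsLocalRing StrictSS

noncomputable section

namespace Groth.Agent.StrictNode

open NodalLib

/-- Near a rational split node with smooth branches there are coordinates `u, v` with `u v = 0` defining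
an étale map to the node model. -/
theorem exists_etale_node_coords (k : Type u) [Field k] [IsSepClosed k] (B : Type u) [CommRing B]
    [Algebra k B] [Algebra.FiniteType k B] (q : Ideal B) [q.IsMaximal]
    (hres : ∀ b : B, ∃ c : k, b - algebraMap k B c ∈ q)
    [IsReduced (Localization.AtPrime q)] (hq : NodalQ.QCrit (Localization.AtPrime q))
    (hreg : ∀ P : Ideal (Localization.AtPrime q), P.IsPrime → P ≠ maximalIdeal (Localization.AtPrime q) →
      ∃ t ∈ maximalIdeal (Localization.AtPrime q), maximalIdeal (Localization.AtPrime q) ≤ P ⊔ Ideal.span {t}) :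
    ∃ g ∉ q, ∃ θ : NodeAlg k 0 →+* Localization.Away g,
      θ.comp (algebraMap k (NodeAlg k 0)) = algebraMap k (Localization.Away g) ∧ θ.Etale := by
  let Bq := Localization.AtPrime q
  haveI : IsNoetherianRing B := Algebra.FiniteType.isNoetherianRing k B
  haveI : IsNoetherianRing Bq := IsLocalization.isNoetherianRing q.primeCompl Bq inferInstance
  have hle : maximalIdeal Bq = q.map (algebraMap B Bq) := (Localization.AtPrime.map_eq_maximalIdeal).symm
  have hresq : ∀ r : Bq, ∃ c : k, r - algebraMap k Bq c ∈ maximalIdeal Bq := by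
    intro r
    obtain ⟨⟨b, s⟩, hbs⟩ := IsLocalization.surj q.primeCompl r
    obtain ⟨c, hc⟩ := hres b
    obtain ⟨d, hd⟩ := hres s
    have hd0 : d ≠ 0 := fun h => s.2 (by simpa [h] using hd)
    refine ⟨c / d, (Ideal.unit_mul_mem_iff_mem _ (IsLocalization.map_units Bq s)).1 ?_⟩
    rw [mul_sub, mul_comm _ r, hbs, IsScalarTower.algebraMap_apply k B Bq, ← map_mul, ← map_sub, hle]
    refine Ideal.mem_map_of_mem _ ?_
    rw [show b - s * algebraMap k B (c / d) =
      (b - algebraMap k B c) - (s - algebraMap k B d) * algebraMap k B (c / d) by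
        rw [sub_mul, ← map_mul, mul_div_cancel₀ _ hd0]; ring]
    exact sub_mem hc (Ideal.mul_mem_right _ _ hd)
  have hc := crit_of_sepClosed k (algebraMap k Bq) hresq hq
  obtain ⟨u, v, huv, hspan⟩ := exists_mul_eq_zero hc hreg
  -- numerators
  obtain ⟨⟨a, s⟩, has⟩ := IsLocalization.surj q.primeCompl u
  obtain ⟨⟨b, t⟩, hbt⟩ := IsLocalization.surj q.primeCompl v
  have hab : algebraMap B Bq (a * b) = 0 := by
    rw [map_mul, ← has, ← hbt]
    linear_combination (algebraMap B Bq s * algebraMap B Bq t) * huv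
  obtain ⟨r, hr⟩ := (IsLocalization.map_eq_zero_iff q.primeCompl Bq _).1 hab
  let w : Fin 2 → B := ![r * a, b]
  have hw : w 0 * w 1 = algebraMap k B 0 := by
    rw [map_zero, show w 0 * w 1 = r * (a * b) from mul_assoc (r : B) a b, hr]
  have hgen : Ideal.span {algebraMap B Bq (w 0), algebraMap B Bq (w 1)} = maximalIdeal Bq := by
    show Ideal.span {algebraMap B Bq (r * a), algebraMap B Bq b} = _
    rw [map_mul, ← has, ← hbt, ← hspan, Ideal.span_insert, Ideal.span_insert (u : Bq),
      ← mul_assoc, mul_comm (algebraMap B Bq r) u, mul_assoc,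
      Ideal.span_singleton_mul_right_unit ((IsLocalization.map_units Bq r).mul (IsLocalization.map_units Bq s)),
      Ideal.span_singleton_mul_right_unit (IsLocalization.map_units Bq t)]
  let θ₀ : NodeAlg k 0 →+* B := NodeModel.toHom (0 : k) (algebraMap k B) w hw
  have hθc : ∀ c, θ₀ (algebraMap k (NodeAlg k 0) c) = algebraMap k B c := fun c =>
    NodeModel.toHom_algebraMap (0 : k) (algebraMap k B) w hw c
  have hθi : ∀ i, θ₀ (NodeModel.crd (0 : k) i) = w i := fun i =>
    NodeModel.toHom_crd (0 : k) (algebraMap k B) w hw i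
  letI : Algebra (NodeAlg k 0) B := θ₀.toAlgebra
  haveI : IsScalarTower k (NodeAlg k 0) B := IsScalarTower.of_algebraMap_eq fun c => (hθc c).symm
  haveI : IsNoetherianRing (NodeAlg k 0) := Algebra.FiniteType.isNoetherianRing k _
  haveI : Algebra.FiniteType (NodeAlg k 0) B := Algebra.FiniteType.of_restrictScalars_finiteType k _ _
  let p : Ideal (NodeAlg k 0) := q.comap θ₀
  haveI : q.LiesOver p := ⟨rfl⟩
  have hwq : ∀ i, w i ∈ q := fun i => by
    rw [← IsLocalization.AtPrime.to_map_mem_maximal_iff Bq q, ← hgen]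
    fin_cases i <;> exact Ideal.subset_span (by simp [Bq])
  have hp : ∀ i, NodeModel.crd (0 : k) i ∈ p := fun i => by
    show θ₀ _ ∈ q
    rw [hθi]; exact hwq i
  let Rp := Localization.AtPrime p
  letI : Algebra Rp Bq := Localization.AtPrime.algebraOfLiesOver p q
  haveI : Localization.AtPrime.IsLiesOverAlgebra p q := ⟨rfl⟩
  haveI : IsScalarTower (NodeAlg k 0) Rp Bq :=
    IsScalarTower.of_algebraMap_eq (R := NodeAlg k 0) (S := Rp) (A := Bq) fun z => by
    rw [Localization.AtPrime.IsLiesOverAlgebra.algebraMap_eq (p := p) (P := q), Localization.localRingHom_to_map,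
      ← IsScalarTower.algebraMap_apply]
  haveI : IsNoetherianRing Rp := IsLocalization.isNoetherianRing p.primeCompl Rp inferInstance
  have hR := NodeModel.crit_origin (0 : k) rfl p hp Rp
  have hmap : p.map (algebraMap (NodeAlg k 0) Bq) = maximalIdeal Bq := by
    refine le_antisymm ?_ ?_
    · rw [hle, IsScalarTower.algebraMap_eq (NodeAlg k 0) B Bq, ← Ideal.map_map]
      exact Ideal.map_mono Ideal.map_comap_le
    · rw [← hgen, Ideal.span_le]
      rintro z (rfl | rfl)
      · rw [← hθi 0]; exact Ideal.mem_map_of_mem (algebraMap (NodeAlg k 0) Bq) (hp 0)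
      · rw [← hθi 1]; exact Ideal.mem_map_of_mem (algebraMap (NodeAlg k 0) Bq) (hp 1)
  have hmR : (maximalIdeal Rp).map (algebraMap Rp Bq) = maximalIdeal Bq := by
    rw [← Localization.AtPrime.map_eq_maximalIdeal, Ideal.map_map, ← IsScalarTower.algebraMap_eq, hmap]
  have hresR : ∀ z : Bq, ∃ a : Rp, z - algebraMap Rp Bq a ∈ maximalIdeal Bq := fun z => by
    obtain ⟨c, hc⟩ := hresq z
    refine ⟨algebraMap (NodeAlg k 0) Rp (algebraMap k _ c), ?_⟩
    rwa [← IsScalarTower.algebraMap_apply, ← IsScalarTower.algebraMap_apply]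
  obtain ⟨-, -, -, -, hlR⟩ := hR
  obtain ⟨-, -, -, -, hlB⟩ := hc
  have hflat : Module.Flat Rp Bq := flat_of_ell (fun n => 2 * n + 1) (fun n => (hlR n).le) hlB hmR hresR
  have hsurj : Function.Surjective (algebraMap p.ResidueField q.ResidueField) := by
    intro z
    obtain ⟨z, rfl⟩ := IsLocalRing.residue_surjective z
    obtain ⟨a, ha⟩ := hresR z
    refine ⟨IsLocalRing.residue Rp a, ?_⟩
    exact (Ideal.Quotient.eq.2 ha).symm
  have het : Algebra.IsEtaleAt (NodeAlg k 0) q :=
    (EtLoc7.isEtaleAt_iff (NodeAlg k 0) B p q).2 ⟨hflat, hmap,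
      Module.Finite.of_surjective (Algebra.linearMap p.ResidueField q.ResidueField) hsurj,
      ⟨fun z => by obtain ⟨z, rfl⟩ := hsurj z; exact isSeparable_algebraMap z⟩⟩
  haveI := het
  haveI : Algebra.FinitePresentation (NodeAlg k 0) B := Algebra.FinitePresentation.of_finiteType.mp inferInstance
  obtain ⟨g, hg, hget⟩ := Algebra.exists_etale_of_isEtaleAt (R := NodeAlg k 0) q
  exact ⟨g, hg, algebraMap (NodeAlg k 0) (Localization.Away g),
    by rw [← IsScalarTower.algebraMap_eq], RingHom.etale_algebraMap.2 hget⟩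

end Groth.Agent.StrictNode
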