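import Groth.Prelude.Def_StrictSS
import Groth.Agent.RelCurveDiv.Fibre
import Groth.Agent.Synt29.SmoothDim
import Groth.Agent.FibDim.RelDim
import Groth.Agent.S7408
import Mathlib.AlgebraicGeometry.Sites.EtalePoint
import Mathlib.AlgebraicGeometry.Morphisms.FlatMono

/-!
# Line charts at smooth points of a curve over a separably closed field
-/

set_option autoImplicit false
set_option linter.style.haveILetI false
set_option linter.unusedSectionVars false
set_option backward.isDefEq.respectTransparency false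
set_option backward.isDefEq.respectTransparency.types false
set_option maxHeartbeats 1000000

universe u

open CategoryTheory CategoryTheory.Limits AlgebraicGeometry TopologicalSpace StrictSS

noncomputable section

namespace Groth.Agent.StrictNode

variable {k : Type u} [Field k] {C D : Scheme.{u}} (φ : C ⟶ Spec (CommRingCat.of k))

/-- A smooth point of a curve has an étale coordinate near it. -/
theorem exists_coord_open [LocallyOfFinitePresentation φ] (hd : Cyc.HasRelDim φ 1) (x : C)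
    (hx : x ∈ φ.smoothLocus) :
    ∃ (V : C.Opens) (_ : x ∈ V) (f : (V : Scheme.{u}) ⟶ Spec (CommRingCat.of (Polynomial k))),
      Etale f ∧ f ≫ lineToBase k = V.ι ≫ φ := by
  let U₀ := φ.smoothLocus
  let f' := U₀.ι ≫ φ
  haveI : Smooth f' := by
    rw [← Scheme.Hom.smoothLocus_eq_top_iff, ← Scheme.Hom.preimage_smoothLocus_eq]
    exact Scheme.Opens.ι_preimage_self _
  obtain ⟨U, hU, V, hV, e, n, hxV, hstd, -, hdim⟩ := Synt29.SmoothDim.exists_chart f' ⟨x, hx⟩
  have hn : n = 1 := by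
    have h1 := S7408.result φ f' U₀.ι (𝟙 _) (Category.comp_id _) ⟨x, hx⟩
    rw [hdim, show U₀.ι ⟨x, hx⟩ = x from rfl, FibDim.fibreDimAt_eq_of_hasRelDim φ hd x] at h1
    exact_mod_cast h1.symm
  subst hn
  have hUtop : U = ⊤ := by
    refine Opens.ext (Set.eq_univ_of_forall fun y => ?_)
    rw [show y = f' ⟨x, hx⟩ from Subsingleton.elim (α := PrimeSpectrum k) _ _]
    exact e hxV
  subst hUtop
  let r : k →+* Γ((U₀ : Scheme.{u}), V) :=
    ((Scheme.ΓSpecIso (CommRingCat.of k)).inv ≫ f'.appLE ⊤ V e).hom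
  have hr : r.IsStandardSmoothOfRelativeDimension 1 := by
    have := RingHom.isStandardSmoothOfRelativeDimension_respectsIso.2 _
      (Scheme.ΓSpecIso (CommRingCat.of k)).commRingCatIsoToRingEquiv.symm hstd
    exact this
  letI : Algebra k Γ((U₀ : Scheme.{u}), V) := r.toAlgebra
  haveI : Algebra.IsStandardSmoothOfRelativeDimension 1 k Γ((U₀ : Scheme.{u}), V) := hr
  obtain ⟨t, ht⟩ := RelCurveDiv.exists_coord k (B := Γ((U₀ : Scheme.{u}), V))
  let a : Spec Γ((U₀ : Scheme.{u}), V) ⟶ Spec (CommRingCat.of (Polynomial k)) :=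
    Spec.map (CommRingCat.ofHom (Polynomial.aeval (R := k) t).toRingHom)
  haveI : Etale a := (HasRingHomProperty.Spec_iff (P := @Etale)).2 ht
  let j := hV.fromSpec ≫ U₀.ι
  refine ⟨j.opensRange, ?_, j.isoOpensRange.inv ≫ a, inferInstance, ?_⟩
  · obtain ⟨v, hv⟩ : (⟨x, hx⟩ : U₀.toScheme) ∈ Set.range hV.fromSpec := by rw [hV.range_fromSpec]; exact hxV
    exact ⟨v, by simp [j, hv]⟩
  · have h1 : a ≫ lineToBase k = hV.fromSpec ≫ f' := by
      rw [← IsAffineOpen.SpecMap_appLE_fromSpec f' (isAffineOpen_top (Spec (CommRingCat.of k))) hV e,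
        IsAffineOpen.fromSpec_top,
        Scheme.isoSpec_Spec_inv]
      show Spec.map _ ≫ Spec.map _ = _
      rw [← Spec.map_comp, ← Spec.map_comp]
      refine congrArg Spec.map ?_
      ext c
      exact Polynomial.aeval_C t c
    rw [Category.assoc, h1, ← Category.assoc hV.fromSpec, Scheme.Hom.isoOpensRange_inv_comp_assoc]

/-- The shift of the affine line. -/
theorem exists_shift (c : k) : ∃ σ : Polynomial k →+* Polynomial k, σ.comp Polynomial.C = Polynomial.C ∧
    (Polynomial.evalRingHom c).comp σ = Polynomial.evalRingHom 0 ∧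
    Etale (Spec.map (CommRingCat.ofHom σ)) := by
  let mk : k → (Polynomial k →+* Polynomial k) := fun d => Polynomial.eval₂RingHom Polynomial.C (Polynomial.X - Polynomial.C d)
  have hmk : ∀ d, (mk d).comp (mk (-d)) = RingHom.id _ := fun d =>
    Polynomial.ringHom_ext (fun r => by simp [mk]) (by simp [mk])
  refine ⟨mk c, RingHom.ext fun r => by simp [mk],
    Polynomial.ringHom_ext (fun r => by simp [mk]) (by simp [mk]), ?_⟩
  rw [HasRingHomProperty.Spec_iff (P := @Etale)]
  exact RingHom.Etale.of_bijective (RingEquiv.ofRingHom (mk c) (mk (-c)) (hmk c) (by simpa using hmk (-c))).bijective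

variable [IsSepClosed k] (i : D ⟶ C)

/-- A smooth point has a line chart. -/
theorem hasLineChartAt [LocallyOfFinitePresentation φ] (hd : Cyc.HasRelDim φ 1) [IsClosedImmersion i]
    [Etale (i ≫ φ)] (x : C) (hx : x ∈ φ.smoothLocus) : HasLineChartAt φ i x := by
  obtain ⟨V, hxV, f₀, hf₀, hf₀c⟩ := exists_coord_open φ hd x hx
  haveI := hf₀
  have mkChart : ∀ (U : C.Opens) (hUV : U ≤ V), x ∈ U → ∀ (c : k),
      ((i ⁻¹ᵁ U).ι ≫ i ≫ φ) ≫ Spec.map (CommRingCat.ofHom (Polynomial.evalRingHom c)) =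
        (i ∣_ U) ≫ C.homOfLE hUV ≫ f₀ → HasLineChartAt φ i x := by
    intro U hUV hxU c hc
    obtain ⟨σ, hσC, hσe, hσ⟩ := exists_shift c
    haveI := hσ
    let f : (U : Scheme.{u}) ⟶ Spec (CommRingCat.of (Polynomial k)) :=
      (C.homOfLE hUV ≫ f₀) ≫ Spec.map (CommRingCat.ofHom σ)
    refine ⟨CommRingCat.of k, 𝟙 _, inferInstance, U, hxU, U.ι ≫ φ, (Category.comp_id _).symm, f,
      (i ⁻¹ᵁ U).ι ≫ i ≫ φ, inferInstanceAs (Etale ((_ ≫ _) ≫ _)), ?_, inferInstance, ?_⟩
    · have : Spec.map (CommRingCat.ofHom σ) ≫ lineToBase k = lineToBase k := by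
        show Spec.map _ ≫ Spec.map _ = Spec.map _
        rw [← Spec.map_comp, ← CommRingCat.ofHom_comp, hσC]
      show ((_ ≫ _) ≫ _) ≫ _ = _
      simp only [Category.assoc, this, hf₀c, Scheme.homOfLE_ι_assoc]
    · have : Spec.map (CommRingCat.ofHom (Polynomial.evalRingHom c)) ≫ Spec.map (CommRingCat.ofHom σ) = lineZero k := by
        rw [← Spec.map_comp, ← CommRingCat.ofHom_comp, hσe]
      show _ ≫ lineZero k = _ ≫ (_ ≫ _) ≫ _
      rw [← this, ← Category.assoc, hc]
      simp only [Category.assoc]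
  by_cases hxD : x ∈ Set.range i
  swap
  · -- no marked point nearby
    let U : C.Opens := V ⊓ ⟨(Set.range i)ᶜ, i.isClosedEmbedding.isClosed_range.isOpen_compl⟩
    haveI : IsEmpty ((i ⁻¹ᵁ U : D.Opens) : Scheme.{u}) := ⟨fun d => d.2.2 ⟨d.1, rfl⟩⟩
    exact mkChart U inf_le_left ⟨hxV, hxD⟩ 0 (isInitialOfIsEmpty.hom_ext _ _)
  obtain ⟨d, rfl⟩ := hxD
  haveI : Subsingleton (Spec (CommRingCat.of k)) := inferInstanceAs (Subsingleton (PrimeSpectrum k))
  obtain ⟨s, hs, hsd⟩ := Scheme.exists_fac_of_etale_of_isSepClosed (i ≫ φ) (𝟙 _) d (Subsingleton.elim _ _)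
  haveI : Etale (s ≫ i ≫ φ) := by rw [hs]; infer_instance
  haveI : Etale s := Etale.of_comp s (i ≫ φ)
  haveI : Mono (s ≫ i ≫ φ) := by rw [hs]; infer_instance
  haveI : Mono s := mono_of_mono s (i ≫ φ)
  haveI : IsOpenImmersion s := IsOpenImmersion.of_flat_of_mono s
  have hrange : Set.range s = {d} := by
    ext z
    constructor
    · rintro ⟨p, rfl⟩
      rw [Subsingleton.elim p default, hsd]; rfl
    · rintro rfl
      exact ⟨default, hsd⟩
  have hclosed : IsClosed (i '' ({d}ᶜ : Set D)) :=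
    i.isClosedEmbedding.isClosedMap _ (hrange ▸ s.isOpenEmbedding.isOpen_range).isClosed_compl
  let U : C.Opens := V ⊓ ⟨(i '' ({d}ᶜ : Set D))ᶜ, hclosed.isOpen_compl⟩
  have hdU : i d ∈ U := ⟨hxV, fun ⟨d', hd', h⟩ => hd' (i.isClosedEmbedding.injective h)⟩
  have hsU : Set.range s ⊆ Set.range (i ⁻¹ᵁ U).ι := by
    rw [Scheme.Opens.range_ι, hrange, Set.singleton_subset_iff]
    exact hdU
  let a : Spec (CommRingCat.of k) ⟶ (i ⁻¹ᵁ U : D.Opens) := IsOpenImmersion.lift (i ⁻¹ᵁ U).ι s hsU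
  have ha : a ≫ (i ⁻¹ᵁ U).ι = s := IsOpenImmersion.lift_fac _ _ _
  haveI : IsOpenImmersion (a ≫ (i ⁻¹ᵁ U).ι) := by rw [ha]; infer_instance
  haveI : IsOpenImmersion a := IsOpenImmersion.of_comp a (i ⁻¹ᵁ U).ι
  haveI : Surjective a := ⟨fun z => ⟨default, (i ⁻¹ᵁ U).ι.isOpenEmbedding.injective (by
    rw [← Scheme.Hom.comp_apply, ha, hsd]
    by_contra hne
    exact z.2.2 ⟨z.1, fun h => hne h.symm, rfl⟩)⟩⟩
  haveI : IsIso a := (isIso_iff_isOpenImmersion_and_surjective a).2 ⟨inferInstance, inferInstance⟩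
  let g := a ≫ (i ∣_ U) ≫ C.homOfLE (inf_le_left : U ≤ V) ≫ f₀
  obtain ⟨γ, hγ⟩ := Spec.map_surjective g
  have hgC : γ.hom.comp Polynomial.C = RingHom.id k := by
    have h1 : Spec.map (CommRingCat.ofHom (Polynomial.C : k →+* Polynomial k) ≫ γ) = Spec.map (𝟙 _) := by
      rw [Spec.map_comp, hγ, Spec.map_id]
      show (a ≫ (i ∣_ U) ≫ C.homOfLE _ ≫ f₀) ≫ lineToBase k = _
      simp only [Category.assoc, hf₀c, Scheme.homOfLE_ι_assoc, morphismRestrict_ι_assoc]
      rw [← Category.assoc, ha, hs]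
    exact congrArg (fun g => g.hom) (Spec.map_injective h1)
  refine mkChart U inf_le_left hdU (γ.hom Polynomial.X) ?_
  rw [← cancel_epi a, ← Category.assoc, ← Category.assoc a, ha, hs, Category.id_comp]
  show _ = g
  rw [← hγ]
  refine congrArg Spec.map (CommRingCat.hom_ext (Polynomial.ringHom_ext (fun r => ?_) (by simp)))
  simpa using (RingHom.congr_fun hgC r).symm

end Groth.Agent.StrictNode
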